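import Groth.Agent.Lib.AddModel19.Basic
import Groth.Agent.Lib.ModelTors19.Basic
import Mathlib.Algebra.Polynomial.Laurent
import Mathlib.RingTheory.RootsOfUnity.AlgebraicallyClosed

/-!
# Smooth affine models of the multiplicative group with torus identity component
-/

set_option autoImplicit false
set_option linter.style.haveILetI false
set_option linter.unusedSectionVars false
set_option synthInstance.maxHeartbeats 400000
set_option backward.isDefEq.respectTransparency false
set_option backward.isDefEq.respectTransparency.types false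
universe u

open CategoryTheory CategoryTheory.Limits MonoidalCategory CartesianMonoidalCategory MonObj GrpObj AlgebraicGeometry
open scoped Polynomial LaurentPolynomial

noncomputable section

namespace Groth.Agent.MulModel19

open AddModel19

/-- Evaluation of Laurent polynomials at a unit function. -/
def evL {R : Type u} [CommRing R] {T : Over (Spec (CommRingCat.of R))} (v : (Γ(T.left, ⊤))ˣ) :
    R[T;T⁻¹] →+* Γ(T.left, ⊤) :=
  LaurentPolynomial.eval₂ (scal T) v

theorem evL_C {R : Type u} [CommRing R] {T : Over (Spec (CommRingCat.of R))} (v : (Γ(T.left, ⊤))ˣ) (r : R) :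
    evL v (LaurentPolynomial.C r) = scal T r :=
  LaurentPolynomial.eval₂_C _ _ _

theorem evL_T {R : Type u} [CommRing R] {T : Over (Spec (CommRingCat.of R))} (v : (Γ(T.left, ⊤))ˣ) (n : ℕ) :
    evL v (LaurentPolynomial.T n) = (v : Γ(T.left, ⊤)) ^ n :=
  LaurentPolynomial.eval₂_T_n _ _ n

theorem evL_toLaurent {R : Type u} [CommRing R] {T : Over (Spec (CommRingCat.of R))} (v : (Γ(T.left, ⊤))ˣ) (p : R[X]) :
    evL v (Polynomial.toLaurent p) = ev (v : Γ(T.left, ⊤)) p :=
  LaurentPolynomial.eval₂_toLaurent _ _ p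

theorem appTop_evL {R : Type u} [CommRing R] {T T' : Over (Spec (CommRingCat.of R))} (g : T' ⟶ T) (v : (Γ(T.left, ⊤))ˣ)
    (p : R[T;T⁻¹]) : g.left.appTop (evL v p) = evL (Units.map g.left.appTop.hom.toMonoidHom v) p := by
  obtain ⟨n, q, hq⟩ := LaurentPolynomial.exists_T_pow p
  have h1 := congrArg (fun z => g.left.appTop (evL v z)) hq
  have h2 := congrArg (evL (Units.map g.left.appTop.hom.toMonoidHom v)) hq
  simp only [map_mul, evL_toLaurent, evL_T, map_pow] at h1 h2
  have h3 : g.left.appTop (ev (v : Γ(T.left, ⊤)) q) =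
      ev ((Units.map g.left.appTop.hom.toMonoidHom v : (Γ(T'.left, ⊤))ˣ) : Γ(T'.left, ⊤)) q :=
    RingHom.congr_fun (appTop_ev g (v : Γ(T.left, ⊤))) q
  rw [h3, h2] at h1
  exact ((Units.map g.left.appTop.hom.toMonoidHom v).isUnit.pow n).mul_right_cancel h1.symm

variable (R : Type u) [CommRing R]

/-- The coordinate of the multiplicative group. -/
abbrev coord : (Γ((Red.Gm (Spec (CommRingCat.of R))).left, ⊤))ˣ := GmPts.unitOfPt (𝟙 (Red.Gm (Spec (CommRingCat.of R))))

/-- The standard chart of the multiplicative group. -/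
theorem exists_chart : ∃ (T : Over (Spec (CommRingCat.of R))) (f : Red.Gm (Spec (CommRingCat.of R)) ⟶ T)
    (q : T ⟶ Red.Gm (Spec (CommRingCat.of R))), f ≫ q = 𝟙 _ ∧ T.left = Spec (CommRingCat.of R[T;T⁻¹]) ∧
      ∀ z, ∃ p, evL (coord R) p = f.left.appTop z := by
  let Gm' := Red.Gm (Spec (CommRingCat.of R))
  let T : Over (Spec (CommRingCat.of R)) := Over.mk (Spec.map (CommRingCat.ofHom (LaurentPolynomial.C : R →+* R[T;T⁻¹])))
  let iT := Scheme.ΓSpecIso (CommRingCat.of R[T;T⁻¹])
  let u : (Γ(T.left, ⊤))ˣ := Units.map iT.inv.hom.toMonoidHom (LaurentPolynomial.isUnit_T (R := R) 1).unit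
  let q : T ⟶ Gm' := GmPts.ptOfUnit u
  let f : Gm' ⟶ T := Over.homMk (Gm'.left.toSpecΓ ≫ Spec.map (CommRingCat.ofHom (evL (coord R)))) (by
    show (Gm'.left.toSpecΓ ≫ Spec.map (CommRingCat.ofHom (evL (coord R)))) ≫
      Spec.map (CommRingCat.ofHom LaurentPolynomial.C) = Gm'.hom
    rw [Category.assoc, ← Spec.map_comp, ← CommRingCat.ofHom_comp,
      show (evL (coord R)).comp LaurentPolynomial.C = scal Gm' from RingHom.ext fun r => evL_C _ _]
    exact toSpecΓ_scal Gm')
  have hf : ∀ p, f.left.appTop (iT.inv p) = evL (coord R) p := by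
    intro p
    show (Gm'.left.toSpecΓ ≫ Spec.map (CommRingCat.ofHom (evL (coord R)))).appTop _ = _
    rw [Scheme.Hom.comp_appTop, Scheme.toSpecΓ_appTop, CommRingCat.comp_apply]
    exact ΓSpecIso_map_apply _ _
  have hfq : f ≫ q = 𝟙 Gm' := by
    refine GmPts.gmFn_injective ?_
    show Red.gmFn (f ≫ q) = Red.gmFn (𝟙 Gm')
    rw [GmPts.gmFn_comp, GmPts.gmFn_ptOfUnit]
    refine (hf _).trans ?_
    show evL (coord R) (LaurentPolynomial.T 1) = (coord R : Γ(Gm'.left, ⊤))
    rw [show (1 : ℤ) = ((1 : ℕ) : ℤ) from rfl, evL_T, pow_one]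
  refine ⟨T, f, q, hfq, rfl, fun z => ⟨iT.hom z, ?_⟩⟩
  rw [← hf, Iso.hom_inv_id_apply]

/-- The multiplicative group has only Laurent polynomial functions. -/
theorem evL_coord_surjective : Function.Surjective (evL (coord R)) := by
  obtain ⟨T, f, q, hfq, -, h⟩ := exists_chart R
  intro z
  obtain ⟨p, hp⟩ := h (q.left.appTop z)
  refine ⟨p, ?_⟩
  rw [hp]
  show (q.left.appTop ≫ f.left.appTop) z = z
  rw [← Scheme.Hom.comp_appTop, ← Over.comp_left, hfq]
  simp

/-- The multiplicative group over a field is connected. -/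
theorem connectedSpace_Gm (k : Type u) [Field k] : ConnectedSpace (Red.Gm (Spec (CommRingCat.of k))).left := by
  obtain ⟨T, f, q, hfq, hT, -⟩ := exists_chart k
  haveI : IrreducibleSpace (PrimeSpectrum k[T;T⁻¹]) := inferInstance
  haveI : ConnectedSpace T.left := hT ▸ inferInstanceAs (ConnectedSpace (PrimeSpectrum k[T;T⁻¹]))
  refine Function.Surjective.connectedSpace (fun y => ⟨f.left y, ?_⟩) q.left.continuous
  rw [← Scheme.Hom.comp_apply, ← Over.comp_left, hfq]
  simp

variable {R} [IsDomain R] [IsDiscreteValuationRing R] {K : Type u} [Field K] [Algebra R K] [IsFractionRing R K]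
  (G : Over (Spec (CommRingCat.of R))) [GrpObj G] [IsAffine G.left] [Flat G.hom] [Smooth G.hom]

/-- A multiplicative function on the generic fibre extends. -/
theorem exists_res_eq (φ : Red.bc (Spec.map (CommRingCat.ofHom (algebraMap R K))) G ⟶ Red.Gm (Spec (CommRingCat.of K)))
    [IsMonHom φ] : ∃ a, res (K := K) G a = Red.gmFn φ := by
  let et := Spec.map (CommRingCat.ofHom (algebraMap R K))
  let x := Red.gmFn φ
  obtain ⟨π, hπ⟩ := IsDiscreteValuationRing.exists_irreducible R
  obtain ⟨r₀, a₀, hr₀, ha₀⟩ := exists_scal_mul (K := K) G x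
  obtain ⟨n, u, hu⟩ := IsDiscreteValuationRing.eq_unit_mul_pow_irreducible hr₀ hπ
  suffices h : ∀ (m : ℕ) (a : Γ(G.left, ⊤)), res (K := K) G a = scal _ (algebraMap R K (π ^ m)) * x →
      ∃ b, res (K := K) G b = x by
    refine h n (scal G ↑u⁻¹ * a₀) ?_
    erw [map_mul]
    rw [res_scal, ha₀, ← _root_.mul_assoc, ← map_mul, ← map_mul, hu, Units.inv_mul_cancel_left]
  intro m
  induction m with
  | zero => exact fun a ha => ⟨a, by rw [ha, pow_zero, map_one, map_one, _root_.one_mul]⟩
  | succ m ih =>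
    intro a ha
    have hmul : (fst G G * snd G G).left.appTop a * scal (G ⊗ G) (π ^ (m + 1)) =
        (fst G G).left.appTop a * (snd G G).left.appTop a := by
      haveI : Flat (G ⊗ G).hom := inferInstanceAs (Flat (pullback.fst G.hom G.hom ≫ G.hom))
      refine res_injective (K := K) (G ⊗ G) ?_
      rw [map_mul, map_mul, res_map, res_map, res_map, ha, res_scal]
      have e1 : ∀ g : Red.bc et (G ⊗ G) ⟶ Red.bc et G, g.left.appTop
          (scal (Red.bc et G) (algebraMap R K (π ^ (m + 1))) * x) =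
          scal _ (algebraMap R K (π ^ (m + 1))) * Red.gmFn (g ≫ φ) := by
        intro g
        rw [map_mul, GmPts.gmFn_comp]
        exact congrArg (· * _) (RingHom.congr_fun (appTop_scal g) _)
      rw [e1, e1, e1]
      have e2 : Red.gmFn ((Over.pullback et).map (fst G G * snd G G) ≫ φ) =
          Red.gmFn ((Over.pullback et).map (fst G G) ≫ φ) * Red.gmFn ((Over.pullback et).map (snd G G) ≫ φ) := by
        rw [← GmPts.gmFn_mul, ← MonObj.mul_comp]
        congr 2
        exact map_mul ((Over.pullback et).homMonoidHom (X := G ⊗ G) (M := G)) _ _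
      rw [e2]
      ring
    have hsq : (lift (𝟙 G) (𝟙 G)).left.appTop ((fst G G * snd G G).left.appTop a * scal (G ⊗ G) (π ^ (m + 1))) = a * a := by
      rw [hmul]
      simp only [map_mul, ← CommRingCat.comp_apply, ← Scheme.Hom.comp_appTop, ← Over.comp_left, lift_fst, lift_snd]
      simp
    have hmem : a * a ∈ Ideal.span {scal G π} := by
      rw [← hsq, map_mul, show (lift (𝟙 G) (𝟙 G)).left.appTop (scal (G ⊗ G) (π ^ (m + 1))) = scal G (π ^ (m + 1)) from
        RingHom.congr_fun (appTop_scal (lift (𝟙 G) (𝟙 G))) _, pow_succ, map_mul]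
      exact Ideal.mul_mem_left _ _ (Ideal.mul_mem_left _ _ (Ideal.mem_span_singleton_self _))
    obtain ⟨b, rfl⟩ := Ideal.mem_span_singleton.1 (mem_span_of_isNilpotent G hπ a fun Q hQ hπQ =>
      (hQ.mem_or_mem ((Ideal.span_singleton_le_iff_mem _).2 hπQ hmem)).elim id id)
    refine ih b ?_
    erw [map_mul, res_scal, pow_succ', map_mul, map_mul, _root_.mul_assoc] at ha
    exact ((isUnit_iff_ne_zero.2 (by simp [hπ.ne_zero, IsFractionRing.to_map_eq_zero_iff])).map _).mul_left_cancel ha

/-- A smooth affine model of the multiplicative group with torus identity component is the multiplicative group. -/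
theorem exists_iso [HenselianLocalRing R] [IsAlgClosed (IsLocalRing.ResidueField R)] [Infinite K]
    [IsCommMonObj G] [IsSeparated G.hom] [QuasiCompact G.hom]
    (e : Red.bc (Spec.map (CommRingCat.ofHom (algebraMap R K))) G ≅ Red.Gm (Spec (CommRingCat.of K))) [IsMonHom e.hom]
    (j₀ : Red.Gm (Spec (CommRingCat.of (IsLocalRing.ResidueField R))) ⟶ Red.bc (Spec.map (CommRingCat.ofHom (IsLocalRing.residue R))) G)
    [IsMonHom j₀] [IsOpenImmersion j₀.left] :
    ∃ e' : G ≅ Red.Gm (Spec (CommRingCat.of R)), IsMonHom e'.hom := by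
  classical
  let et := Spec.map (CommRingCat.ofHom (algebraMap R K))
  let c := Spec.map (CommRingCat.ofHom (IsLocalRing.residue R))
  let κ := IsLocalRing.ResidueField R
  let GK := Red.bc et G
  let A := Γ(G.left, ⊤)
  obtain ⟨π, hπ⟩ := IsDiscreteValuationRing.exists_irreducible R
  -- the coordinate and its inverse
  let x : (Γ(GK.left, ⊤))ˣ := GmPts.unitOfPt e.hom
  have hxe : ∀ p, e.hom.left.appTop (evL (coord K) p) = evL x p := by
    intro p
    rw [appTop_evL]
    congr 2
  have hsurjK : Function.Surjective (evL x) := by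
    intro z
    obtain ⟨p, hp⟩ := evL_coord_surjective K (e.inv.left.appTop z)
    refine ⟨p, ?_⟩
    rw [← hxe, hp, ← CommRingCat.comp_apply, ← Scheme.Hom.comp_appTop, ← Over.comp_left, e.hom_inv_id]
    simp
  have hinjK : ∀ p : K[X], ev (x : Γ(GK.left, ⊤)) p = 0 → p = 0 := by
    intro p hp
    refine Polynomial.eq_zero_of_infinite_isRoot _ (Set.Infinite.mono ?_ (Set.Finite.infinite_compl (Set.finite_singleton (0 : K))))
    intro v hv
    let w : (Γ((𝟙_ (Over (Spec (CommRingCat.of K)))).left, ⊤))ˣ :=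
      Units.map (Scheme.ΓSpecIso (CommRingCat.of K)).inv.hom.toMonoidHom (Units.mk0 v hv)
    let g : 𝟙_ (Over (Spec (CommRingCat.of K))) ⟶ GK := GmPts.ptOfUnit w ≫ e.inv
    have h := congrArg g.left.appTop hp
    rw [← RingHom.comp_apply, appTop_ev, map_zero,
      show g.left.appTop (x : Γ(GK.left, ⊤)) = (w : Γ((𝟙_ (Over (Spec (CommRingCat.of K)))).left, ⊤)) by
        show g.left.appTop (Red.gmFn e.hom) = _
        rw [← GmPts.gmFn_comp, Category.assoc, e.inv_hom_id, Category.comp_id, GmPts.gmFn_ptOfUnit]] at h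
    have hs : scal (𝟙_ (Over (Spec (CommRingCat.of K)))) = (Scheme.ΓSpecIso (CommRingCat.of K)).inv.hom := by
      show ((Scheme.ΓSpecIso (CommRingCat.of K)).inv ≫ Scheme.Hom.appTop (𝟙 (Spec (CommRingCat.of K)))).hom = _
      simp
    have h2 : ev (w : Γ((𝟙_ (Over (Spec (CommRingCat.of K)))).left, ⊤)) p =
        (Scheme.ΓSpecIso (CommRingCat.of K)).inv (p.eval v) := by
      rw [ev, Polynomial.coe_eval₂RingHom, hs]
      exact Polynomial.eval₂_hom _ _
    rw [h2] at h
    exact (ConcreteCategory.bijective_of_isIso (Scheme.ΓSpecIso (CommRingCat.of K)).inv).1 (h.trans (map_zero _).symm)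
  obtain ⟨a₁, ha₁⟩ := exists_res_eq G e.hom
  let φinv : GK ⟶ Red.Gm (Spec (CommRingCat.of K)) := GmPts.ptOfUnit x⁻¹
  have hval : ∀ (U : Over (Spec (CommRingCat.of K))) (a : U ⟶ GK),
      GmPts.unitOfPt (a ≫ φinv) = (GmPts.unitOfPt (a ≫ e.hom))⁻¹ := by
    intro U a
    rw [GmPts.unitOfPt_comp, GmPts.unitOfPt_comp, GmPts.unitOfPt_ptOfUnit, map_inv]
  haveI : IsMonHom φinv := by
    refine Desc.isMonHom_of_points _ (fun U => ?_) (fun U a b => ?_)
    · refine (GmPts.equiv U).injective ?_
      show GmPts.unitOfPt ((1 : U ⟶ GK) ≫ φinv) = GmPts.unitOfPt 1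
      rw [hval, MonObj.one_comp, GmPts.unitOfPt_one, inv_one]
    · refine (GmPts.equiv U).injective ?_
      show GmPts.unitOfPt ((a * b) ≫ φinv) = GmPts.unitOfPt ((a ≫ φinv) * (b ≫ φinv))
      rw [GmPts.unitOfPt_mul, hval, hval, hval, MonObj.mul_comp, GmPts.unitOfPt_mul, _root_.mul_inv]
  obtain ⟨a₂, ha₂⟩ := exists_res_eq G φinv
  have h12 : a₁ * a₂ = 1 := res_injective (K := K) G (by
    erw [map_mul, map_one]
    rw [ha₁, ha₂, GmPts.gmFn_ptOfUnit]
    exact x.mul_inv)
  let y : Aˣ := ⟨a₁, a₂, h12, by rw [mul_comm]; exact h12⟩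
  let φ : G ⟶ Red.Gm (Spec (CommRingCat.of R)) := GmPts.ptOfUnit y
  have hmulf : ∀ (T : Over (Spec (CommRingCat.of R))) (a b : T ⟶ G),
      (a * b).left.appTop a₁ = a.left.appTop a₁ * b.left.appTop a₁ := by
    suffices h : (fst G G * snd G G).left.appTop a₁ = (fst G G).left.appTop a₁ * (snd G G).left.appTop a₁ by
      intro T a b
      have h' := congrArg (lift a b).left.appTop h
      simp only [map_mul, ← CommRingCat.comp_apply, ← Scheme.Hom.comp_appTop, ← Over.comp_left, MonObj.comp_mul,
        lift_fst, lift_snd] at h'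
      exact h'
    haveI : Flat (G ⊗ G).hom := inferInstanceAs (Flat (pullback.fst G.hom G.hom ≫ G.hom))
    refine res_injective (K := K) (G ⊗ G) ?_
    rw [map_mul, res_map, res_map, res_map, ha₁, ← GmPts.gmFn_comp, ← GmPts.gmFn_comp, ← GmPts.gmFn_comp,
      ← GmPts.gmFn_mul, ← MonObj.mul_comp]
    congr 2
    exact map_mul ((Over.pullback et).homMonoidHom (X := G ⊗ G) (M := G)) _ _
  haveI hφ : IsMonHom φ := by
    refine Desc.isMonHom_of_points _ (fun U => ?_) (fun U a b => ?_)
    · refine GmPts.gmFn_injective ?_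
      show Red.gmFn ((1 : U ⟶ G) ≫ φ) = Red.gmFn 1
      rw [GmPts.gmFn_comp, GmPts.gmFn_ptOfUnit, GmPts.gmFn_one]
      have hu : IsUnit ((1 : U ⟶ G).left.appTop a₁) := y.isUnit.map _
      refine hu.mul_left_cancel ?_
      rw [_root_.mul_one]
      exact (hmulf U 1 1).symm.trans (by rw [_root_.mul_one])
    · refine GmPts.gmFn_injective ?_
      show Red.gmFn ((a * b) ≫ φ) = Red.gmFn ((a ≫ φ) * (b ≫ φ))
      rw [GmPts.gmFn_mul, GmPts.gmFn_comp, GmPts.gmFn_comp, GmPts.gmFn_comp, GmPts.gmFn_ptOfUnit]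
      exact hmulf U a b
  have hinjres : ∀ (T : Over (Spec (CommRingCat.of R))) [Flat T.hom] (a b : T ⟶ G), a ≫ φ = b ≫ φ → a = b := by
    intro T _ a b h
    haveI : IsSchemeTheoreticallyDominant et :=
      WeilEq.isSchemeTheoreticallyDominant_SpecMap _ (IsFractionRing.injective R K)
    refine GrpLaw19.map_injective G et T ((cancel_mono e.hom).1 (GmPts.gmFn_injective ?_))
    show Red.gmFn ((Over.pullback et).map a ≫ e.hom) = Red.gmFn ((Over.pullback et).map b ≫ e.hom)
    have h2 : a.left.appTop a₁ = b.left.appTop a₁ := by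
      have h3 := congrArg Red.gmFn h
      rwa [GmPts.gmFn_comp, GmPts.gmFn_comp, GmPts.gmFn_ptOfUnit] at h3
    rw [GmPts.gmFn_comp, GmPts.gmFn_comp, ← ha₁, ← res_map, ← res_map, h2]
  -- polynomials vanishing on the special fibre
  have hres : ∀ P : R[X], ev (y : A) P ∈ Ideal.span {scal G π} → ∀ i, π ∣ P.coeff i := by
    intro P hP i
    obtain ⟨w, hw⟩ := Ideal.mem_span_singleton.1 hP
    rw [← Ideal.mem_span_singleton, ← hπ.maximalIdeal_eq, ← IsLocalRing.residue_eq_zero_iff, ← Polynomial.coeff_map]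
    have hP0 : P.map (IsLocalRing.residue R) = 0 := by
      let T0 : Over (Spec (CommRingCat.of R)) := (Over.map c).obj (𝟙_ (Over (Spec (CommRingCat.of κ))))
      let iκ := Scheme.ΓSpecIso (CommRingCat.of κ)
      have hscal : ∀ r, iκ.hom (scal T0 r) = IsLocalRing.residue R r := by
        intro r
        show iκ.hom ((Scheme.Hom.appTop (𝟙 _ ≫ c)) ((Scheme.ΓSpecIso (CommRingCat.of R)).inv r)) = _
        rw [Category.id_comp]
        exact ΓSpecIso_map_apply _ _
      have hex : ∀ N : ℕ, N.Prime → (N : κ) ≠ 0 → ∃ v : κ, IsPrimitiveRoot v N ∧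
          (P.map (IsLocalRing.residue R)).IsRoot v := by
        intro N hN hNk
        haveI : NeZero (N : κ) := ⟨hNk⟩
        obtain ⟨ζ, hζ⟩ := HasEnoughRootsOfUnity.exists_primitiveRoot κ N
        let uζ : (Γ((𝟙_ (Over (Spec (CommRingCat.of κ)))).left, ⊤))ˣ :=
          Units.map iκ.inv.hom.toMonoidHom (hζ.isUnit hN.ne_zero).unit
        let pζ : 𝟙_ (Over (Spec (CommRingCat.of κ))) ⟶ Red.Gm (Spec (CommRingCat.of κ)) := GmPts.ptOfUnit uζ
        let t := pζ ≫ j₀
        have hpN : pζ ^ N = 1 := by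
          have h := map_pow (GmPts.equiv (𝟙_ (Over (Spec (CommRingCat.of κ))))).symm uζ N
          rw [← map_pow (Units.map iκ.inv.hom.toMonoidHom),
            show (hζ.isUnit hN.ne_zero).unit ^ N = 1 from Units.ext hζ.pow_eq_one, map_one, map_one] at h
          exact h.symm
        have htN : t ^ N = 1 := by rw [← MonObj.pow_comp, hpN, MonObj.one_comp]
        let τ : T0 ⟶ G := (SubSpec19.bcPts c _).symm t
        have hτN : τ ^ N = 1 := by rw [← map_pow, htN, map_one]
        let v : κ := iκ.hom (τ.left.appTop a₁)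
        have hvpow : ∀ (m : ℕ), iκ.hom ((τ ^ m).left.appTop a₁) = v ^ m := by
          intro m
          induction m with
          | zero =>
            rw [pow_zero, pow_zero, show (1 : T0 ⟶ G).left.appTop a₁ = 1 by
              have h3 := congrArg Red.gmFn (MonObj.one_comp φ (X := T0))
              rwa [GmPts.gmFn_comp, GmPts.gmFn_ptOfUnit, GmPts.gmFn_one] at h3, map_one]
          | succ m ihm => rw [pow_succ, hmulf, map_mul, ihm, pow_succ]
        have hvN : v ^ N = 1 := by
          rw [← hvpow, hτN, ← pow_zero τ, hvpow, pow_zero]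
        have hv1 : v ≠ 1 := by
          intro hv
          let ψ : Over.mk c ⟶ T0 := Over.homMk (𝟙 _) (by
            show 𝟙 _ ≫ 𝟙 _ ≫ c = c
            simp)
          have hNR : IsUnit (N : R) := IsUnit.of_map (IsLocalRing.residue R) _ (by
            rw [map_natCast]; exact isUnit_iff_ne_zero.2 hNk)
          obtain ⟨σ, ⟨hσN, hσ⟩, -⟩ := TorsLift22.existsUnique_lift hNR (ψ ≫ τ)
            (by rw [← MonObj.comp_pow, hτN, MonObj.comp_one])
          let T1 : Over (Spec (CommRingCat.of R)) := Over.mk (𝟙 (Spec (CommRingCat.of R)))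
          let iR := Scheme.ΓSpecIso (CommRingCat.of R)
          have hσ1 : σ ≫ φ = 1 := by
            refine GmPts.gmFn_injective ?_
            show Red.gmFn (σ ≫ φ) = Red.gmFn 1
            rw [GmPts.gmFn_comp, GmPts.gmFn_ptOfUnit, GmPts.gmFn_one]
            let u : R := iR.hom (σ.left.appTop a₁)
            have hu : u ^ N = 1 := by
              have h3 := congrArg Red.gmFn (show (σ ≫ φ) ^ N = 1 by rw [← MonObj.pow_comp, hσN, MonObj.one_comp])
              have h4 : ∀ m : ℕ, Red.gmFn ((σ ≫ φ) ^ m) = (σ.left.appTop a₁) ^ m := fun m => by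
                induction m with
                | zero => rw [pow_zero, pow_zero, GmPts.gmFn_one]
                | succ m ihm => rw [pow_succ, GmPts.gmFn_mul, ihm, GmPts.gmFn_comp, GmPts.gmFn_ptOfUnit, pow_succ]
              rw [h4, GmPts.gmFn_one] at h3
              show iR.hom _ ^ N = 1
              rw [← map_pow, h3, map_one]
            have hures : IsLocalRing.residue R u = 1 := by
              rw [← hv]
              have h5 := congrArg (fun a : Over.mk c ⟶ G => a.left.appTop a₁) hσ
              simp only [Over.comp_left, Scheme.Hom.comp_appTop, CommRingCat.comp_apply] at h5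
              show _ = iκ.hom (τ.left.appTop a₁)
              rw [show τ.left.appTop a₁ = (Scheme.Hom.appTop (𝟙 _)) (τ.left.appTop a₁) by simp]
              refine Eq.trans ?_ (congrArg iκ.hom h5)
              rw [← ΓSpecIso_map_apply (IsLocalRing.residue R) u]
              congr 2
              exact Iso.hom_inv_id_apply _ _
            have hu1 : u = 1 := by
              have hsum : IsUnit (∑ i ∈ Finset.range N, u ^ i) := IsUnit.of_map (IsLocalRing.residue R) _ (by
                simp [map_sum, hures, isUnit_iff_ne_zero, hNk])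
              have h6 := geom_sum_mul u N
              rw [hu, sub_self] at h6
              exact sub_eq_zero.1 (hsum.mul_right_eq_zero.1 h6)
            refine (ConcreteCategory.bijective_of_isIso iR.hom).1 ?_
            exact hu1.trans (map_one iR.hom.hom).symm
          haveI : Flat T1.hom := inferInstanceAs (Flat (𝟙 _))
          have h7 : σ = 1 := hinjres T1 σ 1 (by rw [hσ1, MonObj.one_comp])
          rw [h7, MonObj.comp_one] at hσ
          let ψ' : T0 ⟶ Over.mk c := Over.homMk (𝟙 _) (by
            show 𝟙 _ ≫ c = 𝟙 _ ≫ c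
            rfl)
          have hψψ : ψ' ≫ ψ = 𝟙 T0 := Over.OverMorphism.ext (Category.comp_id (𝟙 _))
          have h8 : τ = 1 := by
            rw [← Category.id_comp τ, ← hψψ, Category.assoc, ← hσ, MonObj.comp_one]
          have h11 : t = 1 := (SubSpec19.bcPts c _).symm.injective (h8.trans (map_one _).symm)
          haveI : Mono j₀ := Over.mono_of_mono_left j₀
          have h12' : pζ = 1 := (cancel_mono j₀).1 (h11.trans (MonObj.one_comp j₀).symm)
          have h13 : uζ = 1 := (GmPts.equiv _).symm.injective (h12'.trans (map_one _).symm)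
          have h14 := congrArg (fun u : (Γ((𝟙_ (Over (Spec (CommRingCat.of κ)))).left, ⊤))ˣ => iκ.hom u.1) h13
          have h15 : ζ = 1 := by simpa [uζ] using h14
          exact hN.ne_one (hζ.unique (h15 ▸ IsPrimitiveRoot.one))
        haveI := Fact.mk hN
        refine ⟨v, orderOf_eq_prime hvN hv1 ▸ IsPrimitiveRoot.orderOf v, ?_⟩
        have h := congrArg (fun a => iκ.hom (τ.left.appTop a)) hw
        simp only [map_mul] at h
        rw [← RingHom.comp_apply (CommRingCat.Hom.hom τ.left.appTop) (ev (y : A)), appTop_ev,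
          ← RingHom.comp_apply (CommRingCat.Hom.hom τ.left.appTop) (scal G), appTop_scal, hscal,
          (IsLocalRing.residue_eq_zero_iff π).2 (hπ.maximalIdeal_eq ▸ Ideal.mem_span_singleton_self π), zero_mul] at h
        rw [Polynomial.IsRoot, ← h, ev, Polynomial.coe_eval₂RingHom, Polynomial.hom_eval₂, Polynomial.eval_map]
        congr 1
        exact (RingHom.ext hscal).symm
      choose V hV using hex
      refine Polynomial.eq_zero_of_infinite_isRoot _ ?_
      have hinf : {N : ℕ | N.Prime ∧ (N : κ) ≠ 0}.Infinite := by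
        refine Set.Infinite.mono ?_ (Nat.infinite_setOf_prime.diff (Set.finite_singleton (ringChar κ)))
        rintro N ⟨hN, hN'⟩
        refine ⟨hN, fun h => hN' ?_⟩
        rcases (Nat.dvd_prime hN).1 ((ringChar.spec κ N).1 h) with h1 | h1
        · exact absurd h1 (CharP.ringChar_ne_one)
        · exact h1.symm
      haveI := hinf.to_subtype
      refine Set.Infinite.mono ?_ (Set.infinite_range_of_injective
        (f := fun N : {N : ℕ | N.Prime ∧ (N : κ) ≠ 0} => V N.1 N.2.1 N.2.2) fun N M h => Subtype.ext ?_)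
      · rintro _ ⟨N, rfl⟩
        exact (hV _ _ _).2
      · have h' : V N.1 N.2.1 N.2.2 = V M.1 M.2.1 M.2.2 := h
        exact (hV N.1 N.2.1 N.2.2).1.unique (h'.symm ▸ (hV M.1 M.2.1 M.2.2).1)
    rw [hP0, Polynomial.coeff_zero]
  -- the functions
  have hevK : ∀ P : R[X], res (K := K) G (ev (y : A) P) = ev (x : Γ(GK.left, ⊤)) (P.map (algebraMap R K)) := by
    intro P
    induction P using Polynomial.induction_on' with
    | add p q hp hq => rw [map_add, map_add, hp, hq, Polynomial.map_add, map_add]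
    | monomial n r =>
      simp [ev, ← Polynomial.C_mul_X_pow_eq_monomial]
      erw [map_mul, map_pow]
      rw [res_scal]
      exact congrArg (fun z => _ * z ^ n) ha₁
  have hinj : Function.Injective (evL y) := by
    rw [injective_iff_map_eq_zero]
    intro p hp
    obtain ⟨n, q, hq⟩ := LaurentPolynomial.exists_T_pow p
    have h1 := congrArg (evL y) hq
    rw [map_mul, hp, zero_mul, evL_toLaurent] at h1
    have h2 := hevK q
    rw [h1, map_zero] at h2
    have h3 := (Polynomial.map_eq_zero_iff (IsFractionRing.injective R K)).1 (hinjK _ h2.symm)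
    rw [h3, map_zero] at hq
    exact (LaurentPolynomial.isUnit_T (n : ℤ)).mul_left_eq_zero.1 hq.symm
  have hpoly : ∀ (n : ℕ) (a : A) (P : R[X]), scal G (π ^ n) * a = ev (y : A) P → ∃ Q, ev (y : A) Q = a := by
    intro n
    induction n with
    | zero => exact fun a P h => ⟨P, by simpa using h.symm⟩
    | succ n ihn =>
      intro a P h
      have hd := hres P (Ideal.mem_span_singleton.2 ⟨scal G (π ^ n) * a, by rw [← h, pow_succ', map_mul, _root_.mul_assoc]⟩)
      obtain ⟨Q, hQ⟩ := (Polynomial.C_dvd_iff_dvd_coeff _ _).2 hd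
      refine ihn a Q (res_injective (K := K) G ?_)
      have h2 := congrArg (res (K := K) G) h
      rw [hQ, map_mul (ev (y : A)), show ev (y : A) (Polynomial.C π) = scal G π from Polynomial.eval₂_C _ _] at h2
      erw [map_mul, map_mul, res_scal, res_scal, pow_succ', map_mul, map_mul, _root_.mul_assoc] at h2
      erw [map_mul, res_scal]
      exact ((isUnit_iff_ne_zero.2 (by simp [hπ.ne_zero, IsFractionRing.to_map_eq_zero_iff])).map _).mul_left_cancel h2
  have hsurj : Function.Surjective (evL y) := by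
    intro a
    obtain ⟨p, hp⟩ := hsurjK (res (K := K) G a)
    obtain ⟨m, q, hq⟩ := LaurentPolynomial.exists_T_pow p
    obtain ⟨⟨b, hb⟩, hb'⟩ := IsLocalization.integerNormalization_map_to_map (nonZeroDivisors R) q
    obtain ⟨n, u, hu⟩ := IsDiscreteValuationRing.eq_unit_mul_pow_irreducible (nonZeroDivisors.ne_zero hb) hπ
    obtain ⟨Q, hQ⟩ := hpoly n (a * (y : A) ^ m)
      (Polynomial.C (↑u⁻¹ : R) * IsLocalization.integerNormalization (nonZeroDivisors R) q) (by
        refine res_injective (K := K) G ?_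
        rw [hevK, Polynomial.map_mul, hb', Polynomial.map_C, Algebra.smul_def, Polynomial.algebraMap_apply,
          ← _root_.mul_assoc (Polynomial.C _) (Polynomial.C _) q, ← Polynomial.C_mul]
        simp only [← map_mul, hu, Submonoid.mk_smul, Units.inv_mul_cancel_left]
        refine (map_mul (res (K := K) G) (scal G (π ^ n)) (a * (y : A) ^ m)).trans ?_
        refine (congrArg₂ (· * ·) (res_scal G _) ((map_mul (res (K := K) G) a _).trans
          (congrArg (_ * ·) (map_pow (res (K := K) G) _ m)))).trans ?_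
        rw [map_mul (ev (x : Γ(GK.left, ⊤)))]
        rw [show ev (x : Γ(GK.left, ⊤)) (Polynomial.C (algebraMap R K (π ^ n))) = scal GK (algebraMap R K (π ^ n)) from
          Polynomial.eval₂_C _ _]
        congr 1
        have h3 := congrArg (evL x) hq
        rw [evL_toLaurent, map_mul, hp, evL_T] at h3
        rw [h3]
        exact congrArg (fun z => _ * z ^ m) ha₁)
    refine ⟨Polynomial.toLaurent Q * LaurentPolynomial.T (-(m : ℤ)), ?_⟩
    rw [map_mul, evL_toLaurent, hQ]
    show a * (y : A) ^ m * LaurentPolynomial.eval₂ (scal G) y _ = a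
    rw [LaurentPolynomial.eval₂_T_neg_n, _root_.mul_assoc, ← mul_pow, Units.mul_inv, one_pow, _root_.mul_one]
  -- the inverse
  let E := RingEquiv.ofBijective (evL y) ⟨hinj, hsurj⟩
  let Gm' := Red.Gm (Spec (CommRingCat.of R))
  let θ : A →+* Γ(Gm'.left, ⊤) := (evL (coord R)).comp E.symm.toRingHom
  have hθev : ∀ P, θ (evL y P) = evL (coord R) P := fun P => congrArg (evL (coord R)) (E.symm_apply_apply P)
  have hθs : θ.comp (scal G) = scal Gm' := by
    ext r
    have h := hθev (LaurentPolynomial.C r)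
    rwa [evL_C, evL_C] at h
  let v : Gm' ⟶ G := Over.homMk (Gm'.left.toSpecΓ ≫ Spec.map (CommRingCat.ofHom θ) ≫ G.left.isoSpec.inv) (by
    show (_ ≫ _ ≫ G.left.isoSpec.inv) ≫ G.hom = _
    rw [Category.assoc, Category.assoc, isoSpec_inv_hom, ← Spec.map_comp, ← CommRingCat.ofHom_comp, hθs]
    exact toSpecΓ_scal Gm')
  have hv : ∀ a, v.left.appTop a = θ a := by
    intro a
    show (Gm'.left.toSpecΓ ≫ Spec.map (CommRingCat.ofHom θ) ≫ G.left.isoSpec.inv).appTop a = θ a
    rw [Scheme.Hom.comp_appTop, Scheme.Hom.comp_appTop, Scheme.toSpecΓ_appTop, isoSpec_inv_appTop']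
    simp only [Category.assoc, CommRingCat.comp_apply]
    exact ΓSpecIso_map_apply θ _
  have hvφ : v ≫ φ = 𝟙 Gm' := by
    refine GmPts.gmFn_injective ?_
    show Red.gmFn (v ≫ φ) = (coord R : Γ(Gm'.left, ⊤))
    rw [GmPts.gmFn_comp, GmPts.gmFn_ptOfUnit, hv]
    have h := hθev (LaurentPolynomial.T ((1 : ℕ) : ℤ))
    rwa [evL_T, evL_T, pow_one, pow_one] at h
  have hφv : φ ≫ v = 𝟙 G := by
    refine Over.OverMorphism.ext (ext_of_isAffine (CommRingCat.hom_ext (RingHom.ext fun a => ?_)))
    obtain ⟨P, rfl⟩ := hsurj a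
    show (φ.left ≫ v.left).appTop (evL y P) = Scheme.Hom.appTop (𝟙 G.left) (evL y P)
    rw [Scheme.Hom.comp_appTop, CommRingCat.comp_apply, hv, hθev, appTop_evL]
    rw [show Units.map (CommRingCat.Hom.hom φ.left.appTop).toMonoidHom (coord R) = y from Units.ext (by
      show φ.left.appTop (Red.gmFn (𝟙 _)) = _
      rw [← GmPts.gmFn_comp, Category.comp_id, GmPts.gmFn_ptOfUnit])]
    simp
  exact ⟨⟨φ, v, hφv, hvφ⟩, hφ⟩

end Groth.Agent.MulModel19
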